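import Mathlib

/-!
# Anticommuting pairs and cyclic shifts of commuting involutions in dimension six (helper392, S3540 row `L₃(4)`)
-/

set_option autoImplicit false
set_option linter.unusedSectionVars false

universe u v

namespace Cfsg.Agent.H392.HT

open Module

section pairs

variable {k : Type u} [Field k] {W : Type v} [AddCommGroup W] [Module k W] [FiniteDimensional k W]

/-- two independent anticommuting pairs need a dimension divisible by four -/
theorem no_pairs [IsAlgClosed k] (h2 : (2 : k) ≠ 0) (hW : finrank k W = 6) {A B C D : Module.End k W} {α : k}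
    (hα : α ≠ 0) (hA : A * A = α • 1) (hB : Function.Injective B) (hC : Function.Injective C)
    (hD : Function.Injective D) (hAB : A * B = -(B * A)) (hCD : C * D = -(D * C)) (hAC : A * C = C * A)
    (hAD : A * D = D * A) : False := by
  obtain ⟨β, hβ⟩ := IsAlgClosed.exists_pow_nat_eq α (n := 2) (by norm_num)
  have hβ0 : β ≠ 0 := by
    rintro rfl
    apply hα
    rw [← hβ, zero_pow (by norm_num)]
  have hAv : ∀ v, A (A v) = (β ^ 2) • v := by
    intro v
    have := congrArg (fun T : Module.End k W => T v) hA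
    rw [hβ]
    exact this
  set E := Module.End.eigenspace A β with hE
  set E' := Module.End.eigenspace A (-β) with hE'
  have hAB' : ∀ v, A (B v) = -(B (A v)) := fun v => congrArg (fun T : Module.End k W => T v) hAB
  have hBE : ∀ v ∈ E, B v ∈ E' := by
    intro v hv
    rw [hE, Module.End.mem_eigenspace_iff] at hv
    rw [hE', Module.End.mem_eigenspace_iff, hAB', hv, map_smul, neg_smul]
  have hBE' : ∀ v ∈ E', B v ∈ E := by
    intro v hv
    rw [hE', Module.End.mem_eigenspace_iff] at hv
    rw [hE, Module.End.mem_eigenspace_iff, hAB', hv, map_smul, neg_smul, neg_neg]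
  have h1 : finrank k E ≤ finrank k E' :=
    LinearMap.finrank_le_finrank_of_injective (f := B.restrict hBE) (fun x y hxy => by
      have := congrArg Subtype.val hxy
      exact Subtype.ext (hB this))
  have h1' : finrank k E' ≤ finrank k E :=
    LinearMap.finrank_le_finrank_of_injective (f := B.restrict hBE') (fun x y hxy => by
      have := congrArg Subtype.val hxy
      exact Subtype.ext (hB this))
  have hinf : E ⊓ E' = ⊥ := by
    rw [eq_bot_iff]
    rintro v ⟨hv, hv'⟩
    rw [SetLike.mem_coe, hE, Module.End.mem_eigenspace_iff] at hv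
    rw [SetLike.mem_coe, hE', Module.End.mem_eigenspace_iff] at hv'
    rw [hv] at hv'
    have h3 : (2 * β) • v = 0 := by
      have h4 : β • v - (-β) • v = 0 := sub_eq_zero.2 hv'
      rw [← sub_smul] at h4
      rwa [show 2 * β = β - -β by ring]
    exact (Submodule.mem_bot k).2 ((smul_eq_zero.1 h3).resolve_left (mul_ne_zero h2 hβ0))
  have hsup : E ⊔ E' = ⊤ := by
    rw [eq_top_iff]
    intro v _
    have h3 : v = (2 * β)⁻¹ • (β • v + A v) + (2 * β)⁻¹ • (β • v - A v) := by
      rw [← smul_add]
      have : β • v + A v + (β • v - A v) = (2 * β) • v := by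
        rw [two_mul, add_smul]; abel
      rw [this, smul_smul, inv_mul_cancel₀ (mul_ne_zero h2 hβ0), one_smul]
    rw [h3]
    refine Submodule.add_mem_sup (Submodule.smul_mem _ _ ?_) (Submodule.smul_mem _ _ ?_)
    · rw [hE, Module.End.mem_eigenspace_iff, map_add, map_smul, hAv, smul_add, smul_smul, pow_two, add_comm]
    · rw [hE', Module.End.mem_eigenspace_iff, map_sub, map_smul, hAv, smul_sub, smul_smul, pow_two, neg_smul,
        neg_mul, neg_smul]
      abel
  have hdim : finrank k E = 3 := by
    have h3 := Submodule.finrank_sup_add_finrank_inf_eq E E'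
    rw [hsup, hinf, finrank_bot, finrank_top, hW] at h3
    omega
  have hmap : ∀ {T : Module.End k W}, A * T = T * A → ∀ v ∈ E, T v ∈ E := by
    intro T hT v hv
    rw [hE, Module.End.mem_eigenspace_iff] at hv ⊢
    have h3 : A (T v) = T (A v) := congrArg (fun T : Module.End k W => T v) hT
    rw [h3, hv, map_smul]
  let C' := C.restrict (hmap hAC)
  let D' := D.restrict (hmap hAD)
  have hCi : LinearMap.det C' ≠ 0 := by
    intro h0
    have := LinearMap.bot_lt_ker_of_det_eq_zero h0
    obtain ⟨x, hx, hx0⟩ := Submodule.exists_mem_ne_zero_of_ne_bot this.ne'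
    apply hx0
    have h3 : C x.1 = 0 := congrArg Subtype.val (LinearMap.mem_ker.1 hx)
    exact Subtype.ext (hC (by rw [h3]; exact (map_zero C).symm))
  have hDi : LinearMap.det D' ≠ 0 := by
    intro h0
    have := LinearMap.bot_lt_ker_of_det_eq_zero h0
    obtain ⟨x, hx, hx0⟩ := Submodule.exists_mem_ne_zero_of_ne_bot this.ne'
    apply hx0
    have h3 : D x.1 = 0 := congrArg Subtype.val (LinearMap.mem_ker.1 hx)
    exact Subtype.ext (hD (by rw [h3]; exact (map_zero D).symm))
  have hcd : C' * D' = (-1 : k) • (D' * C') := by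
    ext x
    have h3 : C (D x.1) = -(D (C x.1)) := congrArg (fun T : Module.End k W => T x.1) hCD
    rw [LinearMap.smul_apply, Submodule.coe_smul]
    change C (D x.1) = (-1 : k) • (D (C x.1))
    rw [h3, neg_one_smul]
  have h3 := congrArg LinearMap.det hcd
  rw [LinearMap.det_smul, map_mul, map_mul, hdim] at h3
  have h4 : (2 : k) * (LinearMap.det C' * LinearMap.det D') = 0 := by
    linear_combination h3
  exact (mul_ne_zero h2 (mul_ne_zero hCi hDi)) h4

end pairs

section shift

variable {k : Type u} [Field k] {W : Type v} [AddCommGroup W] [Module k W] [FiniteDimensional k W]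

theorem step {n : Module.End k W} (hn : n * n = 1) {w : W} (hw : w ≠ 0) :
    ∃ w' : W, w' ≠ 0 ∧ (∃ b : Bool, n w' = (bif b then (-1 : k) else 1) • w') ∧
      ∀ m : Module.End k W, m * n = n * m → ∀ c : k, m w = c • w → m w' = c • w' := by
  have hnn : ∀ v, n (n v) = v := fun v => congrArg (fun T : Module.End k W => T v) hn
  by_cases h : w + n w = 0
  · refine ⟨w, hw, ⟨true, ?_⟩, fun m _ c hc => hc⟩
    rw [cond_true, neg_one_smul]
    exact (neg_eq_of_add_eq_zero_right h).symm
  · refine ⟨w + n w, h, ⟨false, ?_⟩, ?_⟩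
    · rw [cond_false, one_smul, map_add, hnn, add_comm]
    · intro m hm c hc
      have h3 : m (n w) = n (m w) := congrArg (fun T : Module.End k W => T w) hm
      rw [map_add, h3, hc, map_smul, smul_add]

/-- the signs -/
theorem shifts_ne : ∀ s : ZMod 5 → Bool, s 0 = true → (s 0 ^^ s 1 ^^ s 2 ^^ s 3 ^^ s 4) = false →
    ∀ i i' : ZMod 5, i ≠ i' → ∃ j : ZMod 5, s (j - i) ≠ s (j - i') := by decide

/-- a cyclic shift of five commuting involutions with product one, in dimension six -/
theorem shift (h2 : (2 : k) ≠ 0) (hW : finrank k W = 6) {X : Module.End k W} {N : ZMod 5 → Module.End k W}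
    (hX : X ^ 5 = 1) (hN : ∀ i, X * N i = N (i + 1) * X) (hsq : ∀ i, N i * N i = 1)
    (hcomm : ∀ i j, N i * N j = N j * N i) (hprod : N 0 * N 1 * N 2 * N 3 * N 4 = 1) (hne : N 0 ≠ 1) :
    (∃ u : W, u ≠ 0 ∧ X u = u) ∧ ∀ c : k, finrank k (Module.End.eigenspace X c) ≤ 2 := by
  -- a common eigenvector
  obtain ⟨w, hw, s, hs, hs0⟩ : ∃ w : W, w ≠ 0 ∧ ∃ s : ZMod 5 → Bool,
      (∀ i, N i w = (bif s i then (-1 : k) else 1) • w) ∧ s 0 = true := by
    obtain ⟨w₀, h0, h0'⟩ : ∃ w₀ : W, w₀ ≠ 0 ∧ N 0 w₀ = (-1 : k) • w₀ := by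
      obtain ⟨v, hv⟩ : ∃ v, N 0 v ≠ v := by
        by_contra hc
        push Not at hc
        exact hne (LinearMap.ext hc)
      refine ⟨N 0 v - v, sub_ne_zero.2 hv, ?_⟩
      have hnn : N 0 (N 0 v) = v := congrArg (fun T : Module.End k W => T v) (hsq 0)
      rw [map_sub, hnn, neg_one_smul, neg_sub]
    obtain ⟨w₁, h1, ⟨b1, hb1⟩, p1⟩ := step (k := k) (hsq 1) h0
    obtain ⟨w₂, h2', ⟨b2, hb2⟩, p2⟩ := step (k := k) (hsq 2) h1
    obtain ⟨w₃, h3, ⟨b3, hb3⟩, p3⟩ := step (k := k) (hsq 3) h2'
    obtain ⟨w₄, h4, ⟨b4, hb4⟩, p4⟩ := step (k := k) (hsq 4) h3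
    refine ⟨w₄, h4, (![true, b1, b2, b3, b4] : Fin 5 → Bool), ?_, rfl⟩
    have e0 : N 0 w₄ = (-1 : k) • w₄ :=
      p4 _ (hcomm _ _) _ (p3 _ (hcomm _ _) _ (p2 _ (hcomm _ _) _ (p1 _ (hcomm _ _) _ h0')))
    have e1 := p4 _ (hcomm _ _) _ (p3 _ (hcomm _ _) _ (p2 _ (hcomm _ _) _ hb1))
    have e2 := p4 _ (hcomm _ _) _ (p3 _ (hcomm _ _) _ hb2)
    have e3 := p4 _ (hcomm _ _) _ hb3
    intro i
    have key : ∀ i : Fin 5, N i w₄ = (bif (![true, b1, b2, b3, b4] : Fin 5 → Bool) i then (-1 : k) else 1) • w₄ := by
      intro i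
      fin_cases i
      · exact e0
      · exact e1
      · exact e2
      · exact e3
      · exact hb4
    exact key i
  have hne1 : (-1 : k) ≠ 1 := by
    intro h
    apply h2
    linear_combination -h
  have hpar : (s 0 ^^ s 1 ^^ s 2 ^^ s 3 ^^ s 4) = false := by
    have h3 := congrArg (fun T : Module.End k W => T w) hprod
    have h4 : N 0 (N 1 (N 2 (N 3 (N 4 w)))) = w := h3
    have hs' : ∀ (i : ZMod 5) (c : k), N i (c • w) = (c * (bif s i then (-1 : k) else 1)) • w := by
      intro i c
      rw [map_smul, hs, smul_smul]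
    rw [hs 4, hs', hs', hs', hs'] at h4
    by_contra hc
    have h5 : ((bif s 4 then (-1 : k) else 1) * (bif s 3 then (-1 : k) else 1) * (bif s 2 then (-1 : k) else 1) *
        (bif s 1 then (-1 : k) else 1) * (bif s 0 then (-1 : k) else 1)) = -1 := by
      revert hc
      cases s 0 <;> cases s 1 <;> cases s 2 <;> cases s 3 <;> cases s 4 <;> simp
    rw [h5] at h4
    have h6 : (-1 : k) • w = (1 : k) • w := by rw [h4, one_smul]
    exact hne1 (smul_left_injective k hw h6)
  -- the shifts
  have hNX : ∀ (m : ℕ) (j : ZMod 5), N j * X ^ m = X ^ m * N (j - (m : ZMod 5)) := by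
    intro m
    induction m with
    | zero => intro j; simp
    | succ m ih =>
      intro j
      have h3 : N j * X = X * N (j - 1) := by
        rw [hN (j - 1), sub_add_cancel]
      have h5 : j - 1 - (m : ZMod 5) = j - ((m + 1 : ℕ) : ZMod 5) := by push_cast; ring
      rw [pow_succ', ← mul_assoc, h3, mul_assoc, ih, h5, ← mul_assoc]
  let v : ZMod 5 → W := fun i => (X ^ i.val) w
  have hXinj : Function.Injective X := by
    intro a b hab
    have h3 : ∀ z, (X ^ 4) (X z) = z := by
      intro z
      have := congrArg (fun T : Module.End k W => T z) hX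
      rw [pow_succ] at this
      exact this
    rw [← h3 a, ← h3 b, hab]
  have hv0 : ∀ i, v i ≠ 0 := by
    intro i h0
    have h3 : ∀ m : ℕ, Function.Injective (X ^ m) := by
      intro m
      induction m with
      | zero => rw [pow_zero]; exact fun a b h => h
      | succ m ih => rw [pow_succ]; exact ih.comp hXinj
    exact hw (h3 i.val (by rw [map_zero]; exact h0))
  have hNv : ∀ i j : ZMod 5, N j (v i) = (bif s (j - i) then (-1 : k) else 1) • v i := by
    intro i j
    have h3 := congrArg (fun T : Module.End k W => T w) (hNX i.val j)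
    have h4 : N j (v i) = (X ^ i.val) (N (j - ((i.val : ℕ) : ZMod 5)) w) := h3
    rw [h4, ZMod.natCast_zmod_val, hs, map_smul]
  have hli : LinearIndependent k v := by
    let χ : ZMod 5 → (ZMod 5 → k) := fun i j => bif s (j - i) then (-1 : k) else 1
    have hχ : Function.Injective χ := by
      intro i i' h
      by_contra hc
      obtain ⟨j, hj⟩ := shifts_ne s hs0 hpar i i' hc
      have h3 : (bif s (j - i) then (-1 : k) else 1) = (bif s (j - i') then (-1 : k) else 1) := congrFun h j
      revert h3 hj
      cases s (j - i) <;> cases s (j - i') <;> simp [hne1, hne1.symm]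
    have hind := Module.End.independent_iInf_maxGenEigenspace_of_forall_mapsTo N (fun i j φ =>
      Module.End.mapsTo_maxGenEigenspace_of_comm (hcomm j i) φ)
    refine (hind.comp hχ).linearIndependent _ (fun i => ?_) hv0
    rw [Function.comp_apply, Submodule.mem_iInf]
    intro j
    rw [Module.End.mem_maxGenEigenspace]
    refine ⟨1, ?_⟩
    rw [pow_one, LinearMap.sub_apply, hNv, LinearMap.smul_apply, Module.End.one_apply, sub_self]
  have hvm : ∀ m : ℕ, (X ^ m) w = v (m : ZMod 5) := by
    intro m
    change (X ^ m) w = (X ^ ((m : ZMod 5).val)) w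
    rw [ZMod.val_natCast, ← pow_eq_pow_mod m hX]
  have hXv : ∀ i, X (v i) = v (i + 1) := by
    intro i
    have h3 : X (v i) = (X ^ (i.val + 1)) w := by rw [pow_succ']; rfl
    rw [h3, hvm]
    push_cast
    rw [ZMod.natCast_zmod_val]
  let Φ : (ZMod 5 → k) →ₗ[k] W := Fintype.linearCombination k v
  have hΦ : Function.Injective Φ := linearIndependent_iff_injective_fintypeLinearCombination.1 hli
  have hXΦ : ∀ t : ZMod 5 → k, X (Φ t) = Φ (fun i => t (i - 1)) := by
    intro t
    change X (∑ i, t i • v i) = ∑ i, t (i - 1) • v i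
    rw [map_sum, ← Equiv.sum_comp (Equiv.addRight (1 : ZMod 5)) (fun i => t (i - 1) • v i)]
    refine Finset.sum_congr rfl fun i _ => ?_
    rw [map_smul, hXv, Equiv.coe_addRight, add_sub_cancel_right]
  refine ⟨⟨Φ (fun _ => 1), ?_, hXΦ _⟩, fun c => ?_⟩
  · intro h0
    have h3 := hΦ (h0.trans (map_zero Φ).symm)
    exact one_ne_zero (congrFun h3 0)
  · let E' : Submodule k (ZMod 5 → k) :=
      { carrier := {t | ∀ i, t (i - 1) = c * t i}
        add_mem' := by
          intro a b ha hb i
          simp only [Set.mem_ofPred_eq, Pi.add_apply] at ha hb ⊢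
          rw [ha, hb, mul_add]
        zero_mem' := by intro i; simp
        smul_mem' := by
          intro d a ha i
          simp only [Set.mem_ofPred_eq, Pi.smul_apply, smul_eq_mul] at ha ⊢
          rw [ha]; ring }
    have hE1 : finrank k E' ≤ 1 := by
      let f : E' →ₗ[k] k := (LinearMap.proj (0 : ZMod 5)).comp E'.subtype
      have hf : Function.Injective f := by
        rw [← LinearMap.ker_eq_bot, LinearMap.ker_eq_bot']
        intro t ht
        have ht0 : t.1 0 = 0 := ht
        have h3 : ∀ m : ℕ, t.1 (-(m : ZMod 5)) = 0 := by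
          intro m
          induction m with
          | zero => simpa using ht0
          | succ m ih =>
            have h4 := t.2 (-(m : ZMod 5))
            rw [ih, mul_zero] at h4
            have h5 : -((m + 1 : ℕ) : ZMod 5) = -(m : ZMod 5) - 1 := by push_cast; ring
            rw [h5]
            exact h4
        apply Subtype.ext
        funext i
        have h4 := h3 (-i).val
        rw [ZMod.natCast_zmod_val, neg_neg] at h4
        exact h4
      have := LinearMap.finrank_le_finrank_of_injective hf
      rwa [finrank_self] at this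
    have hle : Module.End.eigenspace X c ⊓ LinearMap.range Φ ≤ E'.map Φ := by
      rintro _ ⟨hu, t, rfl⟩
      refine ⟨t, fun i => ?_, rfl⟩
      rw [SetLike.mem_coe, Module.End.mem_eigenspace_iff, hXΦ, ← map_smul] at hu
      exact congrFun (hΦ hu) i
    have h3 := Submodule.finrank_mono hle
    have h4 := Submodule.finrank_map_le Φ E'
    have h5 := Submodule.finrank_sup_add_finrank_inf_eq (Module.End.eigenspace X c) (LinearMap.range Φ)
    have h6 : finrank k (LinearMap.range Φ) = 5 := by
      rw [LinearMap.finrank_range_of_inj hΦ, Module.finrank_fintype_fun_eq_card, ZMod.card]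
    have h7 := Submodule.finrank_le (Module.End.eigenspace X c ⊔ LinearMap.range Φ)
    rw [hW] at h7
    rw [h6] at h5
    omega

end shift

end Cfsg.Agent.H392.HT
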