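import Cfsg.Agent.H333.QS6.Six
import Cfsg.Agent.H392.HT.Pairs

/-!
# S3540, quasisimple rows, degree 6: `L₃(4)` (helper392)
-/

set_option autoImplicit false
set_option linter.unusedSectionVars false

universe u v w

namespace Cfsg.Agent.H392.HT

open Module Cfsg.Agent.H952.F4 Cfsg.Agent.H337.HT Cfsg.Agent.H333.QS6.Rep Cfsg.Agent.H333.QS6.Lift
open Cfsg.Agent.H333.QS6.Kill Cfsg.Agent.H333.QS6.Six
open Cfsg.Agent.H828.HT hiding ev

/-! ### `PSL₃(4)` -/

section data

variable {F : Type v} [Field F]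

/-- the unipotent elements of the point stabiliser -/
def tv (a b : F) : Matrix.SpecialLinearGroup (Fin 3) F := ⟨!![1, 0, a; 0, 1, b; 0, 0, 1], by simp [Matrix.det_fin_three]⟩

theorem tv_mul (a b c d : F) : tv a b * tv c d = tv (a + c) (b + d) := by
  apply Subtype.ext
  rw [Matrix.SpecialLinearGroup.coe_mul]
  change !![1, 0, a; 0, 1, b; 0, 0, 1] * !![1, 0, c; 0, 1, d; 0, 0, 1] = !![1, 0, a + c; 0, 1, b + d; 0, 0, 1]
  ext i j
  fin_cases i <;> fin_cases j <;> simp [Matrix.mul_apply, Fin.sum_univ_three, add_comm]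

/-- `diag ((0, 1; 1, w), 1)` in characteristic two -/
def xm (w : F) (h2 : (2 : F) = 0) : Matrix.SpecialLinearGroup (Fin 3) F := ⟨!![0, 1, 0; 1, w, 0; 0, 0, 1], by
  simp [Matrix.det_fin_three]
  linear_combination -h2⟩

theorem xm_tv (w : F) (h2 : (2 : F) = 0) (a b : F) : xm w h2 * tv a b = tv b (a + w * b) * xm w h2 := by
  apply Subtype.ext
  rw [Matrix.SpecialLinearGroup.coe_mul, Matrix.SpecialLinearGroup.coe_mul]
  change !![0, 1, 0; 1, w, 0; 0, 0, 1] * !![1, 0, a; 0, 1, b; 0, 0, 1] =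
    !![1, 0, b; 0, 1, a + w * b; 0, 0, 1] * !![0, 1, 0; 1, w, 0; 0, 0, 1]
  ext i j
  fin_cases i <;> fin_cases j <;> simp [Matrix.mul_apply, Fin.sum_univ_three]

theorem xm_five (w : F) (h2 : (2 : F) = 0) (hw : w ^ 2 + w + 1 = 0) : xm w h2 ^ 5 = 1 := by
  apply Subtype.ext
  rw [pow_succ, pow_succ, pow_succ, pow_two, Matrix.SpecialLinearGroup.coe_mul, Matrix.SpecialLinearGroup.coe_mul,
    Matrix.SpecialLinearGroup.coe_mul, Matrix.SpecialLinearGroup.coe_mul]
  change !![0, 1, 0; 1, w, 0; 0, 0, 1] * !![0, 1, 0; 1, w, 0; 0, 0, 1] * !![0, 1, 0; 1, w, 0; 0, 0, 1] *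
    !![0, 1, 0; 1, w, 0; 0, 0, 1] * !![0, 1, 0; 1, w, 0; 0, 0, 1] = (1 : Matrix (Fin 3) (Fin 3) F)
  ext i j
  fin_cases i <;> fin_cases j <;> simp [Matrix.mul_apply, Fin.sum_univ_three]
  · linear_combination w * h2 + (w - 1) * hw
  · linear_combination w ^ 2 * h2 + (w ^ 2 - w + 1) * hw
  · linear_combination w ^ 2 * h2 + (w ^ 2 - w + 1) * hw
  · linear_combination (w + 1) * h2 + (1 + (4 + w ^ 2) * (w - 1)) * hw

theorem tv_center {a b : F} (h : tv a b ∈ Subgroup.center (Matrix.SpecialLinearGroup (Fin 3) F)) : a = 0 ∧ b = 0 := by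
  let l : Matrix.SpecialLinearGroup (Fin 3) F := ⟨!![1, 0, 0; 0, 1, 0; 1, 0, 1], by simp [Matrix.det_fin_three]⟩
  have h1 := Subgroup.mem_center_iff.1 h l
  have h2 : (!![1, 0, 0; 0, 1, 0; 1, 0, 1] * !![1, 0, a; 0, 1, b; 0, 0, 1] : Matrix (Fin 3) (Fin 3) F) =
      !![1, 0, a; 0, 1, b; 0, 0, 1] * !![1, 0, 0; 0, 1, 0; 1, 0, 1] := congrArg Subtype.val h1
  have h3 := congrFun (congrFun h2 0) 0
  have h4 := congrFun (congrFun h2 1) 0
  simp [Matrix.mul_apply, Fin.sum_univ_three] at h3 h4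
  exact ⟨h3, h4.symm⟩

theorem conj_tv (w : F) (h2 : (2 : F) = 0) (a b : F) (m : ℕ) :
    ∃ c d : F, xm w h2 ^ m * tv a b * (xm w h2 ^ m)⁻¹ = tv c d := by
  induction m with
  | zero => exact ⟨a, b, by simp⟩
  | succ m ih =>
    obtain ⟨c, d, hcd⟩ := ih
    refine ⟨d, c + w * d, ?_⟩
    rw [pow_succ', mul_inv_rev]
    calc xm w h2 * xm w h2 ^ m * tv a b * ((xm w h2 ^ m)⁻¹ * (xm w h2)⁻¹) =
        xm w h2 * (xm w h2 ^ m * tv a b * (xm w h2 ^ m)⁻¹) * (xm w h2)⁻¹ := by group
      _ = _ := by rw [hcd, xm_tv, mul_inv_cancel_right]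

variable [Fintype F]

theorem two_eq (hF : Fintype.card F = 4) : (2 : F) = 0 := by
  have h := FiniteField.cast_card_eq_zero F
  rw [hF] at h
  push_cast at h
  have h4 : (2 : F) ^ 2 = 0 := by linear_combination h
  exact pow_eq_zero_iff (two_ne_zero) |>.1 h4

theorem exists_w (hF : Fintype.card F = 4) : ∃ w : F, w ^ 2 + w + 1 = 0 := by
  classical
  obtain ⟨w, hw⟩ : ∃ w : F, w ∉ ({0, 1} : Finset F) := by
    by_contra hc
    push Not at hc
    have h1 : (Finset.univ : Finset F) ⊆ {0, 1} := fun x _ => hc x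
    have h2 := Finset.card_le_card h1
    rw [Finset.card_univ, hF] at h2
    have h3 := Finset.card_le_two (a := (0 : F)) (b := 1)
    omega
  rw [Finset.mem_insert, Finset.mem_singleton, not_or] at hw
  refine ⟨w, ?_⟩
  have h1 : w ^ 3 = 1 := by
    have := FiniteField.pow_card_sub_one_eq_one w hw.1
    rwa [hF] at this
  have h2 : (w - 1) * (w ^ 2 + w + 1) = 0 := by linear_combination h1
  exact (mul_eq_zero.1 h2).resolve_left (sub_ne_zero.2 hw.2)

end data

/-- the facts about `PSL₃(4)` -/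
theorem l34 {S : Type v} [Group S] (hS : Cfsg.Agent.H912.Bd.IsL 3 4 S) : Nat.card S = 20160 ∧
    Nat.card (MulAut S) = 241920 ∧ ∃ x a : S, x ^ 5 = 1 ∧ a * a = 1 ∧
      (∀ i j : ℕ, (x ^ i * a * (x ^ i)⁻¹) * (x ^ j * a * (x ^ j)⁻¹) = (x ^ j * a * (x ^ j)⁻¹) * (x ^ i * a * (x ^ i)⁻¹)) ∧
      x * a * x⁻¹ ≠ a := by
  obtain ⟨F, _, _, hF, ⟨e⟩⟩ := hS
  have h1 := Cfsg.Agent.S0243.result hF 3 (by norm_num)
  have hc : Nat.card (Matrix.ProjectiveSpecialLinearGroup (Fin 3) F) = 20160 := by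
    rw [Fin.prod_univ_three] at h1
    have h3 : 3 * (3 * Nat.card (Matrix.ProjectiveSpecialLinearGroup (Fin 3) F)) = 181440 := h1
    omega
  have h2 := two_eq hF
  obtain ⟨w, hw⟩ := exists_w hF
  refine ⟨(Nat.card_congr e.toEquiv).trans hc, ?_, ?_⟩
  · have : Fact (Nat.Prime 2) := ⟨Nat.prime_two⟩
    rw [Nat.card_congr (MulAut.congr e).toEquiv, S0813.result 2 2 (by norm_num) (by rw [hF]; rfl) 3 (by norm_num)
      (fun h => by omega), Cfsg.Agent.H333.QS6.Data.card_pgl (by norm_num), hc, hF]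
    rfl
  · let π : Matrix.SpecialLinearGroup (Fin 3) F →* Matrix.ProjectiveSpecialLinearGroup (Fin 3) F := QuotientGroup.mk' _
    let f : Matrix.SpecialLinearGroup (Fin 3) F →* S := e.symm.toMonoidHom.comp π
    have hconj : ∀ m : ℕ, f (xm w h2) ^ m * f (tv 1 0) * (f (xm w h2) ^ m)⁻¹ =
        f (xm w h2 ^ m * tv 1 0 * (xm w h2 ^ m)⁻¹) := by
      intro m
      rw [map_mul, map_mul, map_inv, map_pow]
    refine ⟨f (xm w h2), f (tv 1 0), ?_, ?_, ?_, ?_⟩
    · rw [← map_pow, xm_five w h2 hw, map_one]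
    · rw [← map_mul, tv_mul]
      have : tv ((1 : F) + 1) (0 + 0) = 1 := by
        apply Subtype.ext
        have h3 : (1 : F) + 1 = 0 := by linear_combination h2
        rw [h3, add_zero]
        change !![1, 0, 0; 0, 1, 0; 0, 0, 1] = (1 : Matrix (Fin 3) (Fin 3) F)
        ext i j
        fin_cases i <;> fin_cases j <;> rfl
      rw [this, map_one]
    · intro i j
      obtain ⟨c, d, hcd⟩ := conj_tv w h2 1 0 i
      obtain ⟨c', d', hcd'⟩ := conj_tv w h2 1 0 j
      rw [hconj, hconj, hcd, hcd', ← map_mul, ← map_mul, tv_mul, tv_mul, add_comm c, add_comm d]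
    · intro h
      have h3 := hconj 1
      rw [pow_one, h, pow_one, xm_tv, mul_inv_cancel_right] at h3
      have h4 : π (tv 1 0) = π (tv 0 (1 + w * 0)) := e.symm.injective h3
      have h5 := QuotientGroup.eq.1 h4
      have h6 : (tv (1 : F) 0)⁻¹ = tv (-1) 0 := by
        rw [inv_eq_iff_mul_eq_one, tv_mul]
        apply Subtype.ext
        change !![1, 0, 1 + -1; 0, 1, 0 + 0; 0, 0, 1] = (1 : Matrix (Fin 3) (Fin 3) F)
        ext i j
        fin_cases i <;> fin_cases j <;> simp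
      rw [h6, tv_mul] at h5
      have h7 := (tv_center h5).1
      apply one_ne_zero (α := F)
      linear_combination -h7

theorem prod_rel {R : Type*} [Ring R] {t0 t1 t2 t3 : R} (q01 : t0 * t1 = -(t1 * t0)) (q02 : t0 * t2 = -(t2 * t0))
    (q03 : t0 * t3 = -(t3 * t0)) (q21 : t2 * t1 = -(t1 * t2)) (q31 : t3 * t1 = -(t1 * t3)) (q32 : t3 * t2 = -(t2 * t3)) :
    (t1 * t2) * (t1 * t3) = -((t1 * t3) * (t1 * t2)) ∧ t0 * (t1 * t2) = t1 * t2 * t0 ∧
      t0 * (t1 * t3) = t1 * t3 * t0 := by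
  refine ⟨?_, ?_, ?_⟩
  · have e1 : t1 * t2 * (t1 * t3) = -(t1 * t1 * (t2 * t3)) := by
      calc t1 * t2 * (t1 * t3) = t1 * (t2 * t1) * t3 := by simp only [mul_assoc]
        _ = _ := by rw [q21]; simp only [mul_neg, neg_mul, mul_assoc]
    have e2 : t1 * t3 * (t1 * t2) = t1 * t1 * (t2 * t3) := by
      calc t1 * t3 * (t1 * t2) = t1 * (t3 * t1) * t2 := by simp only [mul_assoc]
        _ = -(t1 * t1 * (t3 * t2)) := by rw [q31]; simp only [mul_neg, neg_mul, mul_assoc]
        _ = _ := by rw [q32]; simp only [mul_neg, neg_neg]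
    rw [e1, e2]
  · calc t0 * (t1 * t2) = (t0 * t1) * t2 := (mul_assoc _ _ _).symm
      _ = -(t1 * (t0 * t2)) := by rw [q01]; simp only [neg_mul, mul_assoc]
      _ = t1 * t2 * t0 := by rw [q02]; simp only [mul_neg, neg_neg, mul_assoc]
  · calc t0 * (t1 * t3) = (t0 * t1) * t3 := (mul_assoc _ _ _).symm
      _ = -(t1 * (t0 * t3)) := by rw [q01]; simp only [neg_mul, mul_assoc]
      _ = t1 * t3 * t0 := by rw [q03]; simp only [mul_neg, neg_neg, mul_assoc]

/-! ### base change of scalars -/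

section bar

variable {K : Type u} {V : Type v} [Field K] [AddCommGroup V] [Module K V] [FiniteDimensional K V]

theorem bar_smul {G : Type w} [Group G] (ρ : Representation K G V) {g : G} {ζ : K} (h : ρ g = ζ • 1) :
    bar ρ g = algebraMap K (AlgebraicClosure K) ζ • 1 := by
  rw [bar_apply, h, map_smul]
  have h1 : LinearMap.toMatrix (Module.finBasis K V) (Module.finBasis K V) (1 : V →ₗ[K] V) = 1 := LinearMap.toMatrix_one _
  rw [h1, Matrix.map_smul' _ _ _ (fun a b => map_mul _ a b), Matrix.map_one _ (map_zero _) (map_one _), map_smul,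
    Matrix.toLin'_one]
  rfl

end bar

/-! ### the row -/

section row

variable {p : ℕ} [Fact p.Prime] {K : Type w} [Field K] {V : Type u} [AddCommGroup V] [Module (ZMod p) V]
    [Module K V] [Finite V] {G L : Subgroup (V ≃ₗ[ZMod p] V)} {h : ℕ}

theorem kill_six_L34 (H : QS p K V G L h) (hn : finrank K V = 6)
    (hL : Cfsg.Agent.H912.Bd.IsL 3 4 (L ⧸ Subgroup.center L)) : False := by
  obtain ⟨hS, hA, x', a', hx5, ha2, hcom, hxa⟩ := l34 hL
  have h5p : Nat.Prime 5 := by norm_num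
  have h5 : Fact (Nat.Prime 5) := ⟨h5p⟩
  have hs : ¬ 5 ^ 2 ∣ Nat.card (L ⧸ Subgroup.center L) := by rw [hS]; norm_num
  have hd : 5 ∣ Nat.card (L ⧸ Subgroup.center L) := by rw [hS]; norm_num
  have hfin := finiteK H
  have hfd := fd H
  have hq : 11 ≤ Nat.card K := le_p H hS (by
    intro q hq hqp
    interval_cases q <;> first | (exfalso; revert hqp; decide) | decide)
  have h2 : (2 : K) ≠ 0 := by
    have := ne_zero_of_dvd H Nat.prime_two (by rw [hS]; norm_num)
    exact_mod_cast this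
  have hx1 : x' ≠ 1 := by
    rintro rfl
    exact hxa (by rw [one_mul, inv_one, mul_one])
  obtain ⟨x, hx, rfl, hxc⟩ := lift h5p H hs hx5 hx1
  obtain ⟨a, rfl⟩ := QuotientGroup.mk_surjective a'
  -- the conjugates of `a`
  let A : ZMod 5 → L := fun i => x ^ i.val * a * (x ^ i.val)⁻¹
  have hAm : ∀ m : ℕ, x ^ m * a * (x ^ m)⁻¹ = A (m : ZMod 5) := by
    intro m
    change _ = x ^ ((m : ZMod 5)).val * a * (x ^ ((m : ZMod 5)).val)⁻¹
    rw [ZMod.val_natCast, ← pow_eq_pow_mod m hx]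
  have hxA : ∀ (m : ℕ) (i : ZMod 5), x ^ m * A i * (x ^ m)⁻¹ = A (i + m) := by
    intro m i
    have h3 : x ^ m * A i * (x ^ m)⁻¹ = x ^ (i.val + m) * a * (x ^ (i.val + m))⁻¹ := by
      change x ^ m * (x ^ i.val * a * (x ^ i.val)⁻¹) * (x ^ m)⁻¹ = _
      rw [add_comm, pow_add]
      group
    rw [h3, hAm]
    push_cast
    rw [ZMod.natCast_zmod_val]
  have hcen : ∀ i j, A i * A j * (A j * A i)⁻¹ ∈ Subgroup.center L := by
    intro i j
    rw [← QuotientGroup.eq_one_iff]
    have h3 := hcom i.val j.val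
    change (QuotientGroup.mk x ^ i.val * QuotientGroup.mk a * (QuotientGroup.mk x ^ i.val)⁻¹) *
      (QuotientGroup.mk x ^ j.val * QuotientGroup.mk a * (QuotientGroup.mk x ^ j.val)⁻¹) *
      ((QuotientGroup.mk x ^ j.val * QuotientGroup.mk a * (QuotientGroup.mk x ^ j.val)⁻¹) *
      (QuotientGroup.mk x ^ i.val * QuotientGroup.mk a * (QuotientGroup.mk x ^ i.val)⁻¹))⁻¹ = (1 : L ⧸ Subgroup.center L)
    rw [h3, mul_inv_cancel]
  have haa : a * a ∈ Subgroup.center L := by
    rw [← QuotientGroup.eq_one_iff]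
    exact ha2
  have hAA : ∀ i, A i * A i = a * a := by
    intro i
    have h3 := Subgroup.mem_center_iff.1 haa (x ^ i.val)
    change (x ^ i.val * a * (x ^ i.val)⁻¹) * (x ^ i.val * a * (x ^ i.val)⁻¹) = a * a
    have h4 : (x ^ i.val * a * (x ^ i.val)⁻¹) * (x ^ i.val * a * (x ^ i.val)⁻¹) =
      x ^ i.val * (a * a) * (x ^ i.val)⁻¹ := by group
    rw [h4, h3, mul_inv_cancel_right]
  set ρ := rep H with hρ
  have hρi : Function.Injective ρ := rep_injective H
  let P : ZMod 5 → ZMod 5 → Prop := fun i j => A i * A j = A j * A i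
  let Q : ZMod 5 → ZMod 5 → Prop := fun i j => ∃ c : L, A i * A j = c * (A j * A i) ∧ ρ c = (-1 : K) • 1
  have hdich : ∀ i j, P i j ∨ Q i j := by
    intro i j
    have hc := hcen i j
    set c := A i * A j * (A j * A i)⁻¹ with hcdef
    have h3 : A i * A j = c * (A j * A i) := by rw [hcdef, inv_mul_cancel_right]
    have hcc : c * c = 1 := by
      have h4 : A i * A j * (A i)⁻¹ = c * A j := by rw [h3]; group
      have h5 : A i * (A j * A j) * (A i)⁻¹ = (c * A j) * (c * A j) := by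
        rw [← h4]; group
      rw [hAA, Subgroup.mem_center_iff.1 haa (A i), mul_inv_cancel_right] at h5
      have h6 : (c * A j) * (c * A j) = (c * c) * (A j * A j) := by
        have h7 : A j * c = c * A j := Subgroup.mem_center_iff.1 hc (A j)
        calc (c * A j) * (c * A j) = c * (A j * c) * A j := by group
          _ = c * (c * A j) * A j := by rw [h7]
          _ = _ := by group
      rw [h6, hAA] at h5
      have h7 : (c * c) * (a * a) = 1 * (a * a) := by rw [← h5, one_mul]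
      exact mul_right_cancel h7
    obtain ⟨ζ, hζ0, hζ⟩ := scalar_of_center H hc
    have hζ' : ρ c = ζ • 1 := LinearMap.ext hζ
    have hζ2 : ζ * ζ = 1 := by
      have h4 : ρ (c * c) = 1 := by rw [hcc, map_one]
      rw [map_mul, hζ', smul_mul_smul_comm, mul_one] at h4
      obtain ⟨v, hv⟩ := Cfsg.Agent.H333.QS6.Rep.exists_ne_zero H
      have h6 : (ζ * ζ) • v = (1 : K) • v := by
        rw [one_smul]
        exact congrArg (fun T : Module.End K V => T v) h4
      exact smul_left_injective K hv h6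
    rcases mul_self_eq_one_iff.1 hζ2 with h4 | h4
    · left
      rw [h4, one_smul] at hζ'
      have h6 : c = 1 := hρi (by rw [hζ', map_one])
      change A i * A j = A j * A i
      rw [h3, h6, one_mul]
    · right
      exact ⟨c, h3, by rw [hζ', h4]⟩
  have hPs : ∀ (m : ℕ) (i j : ZMod 5), P i j → P (i + m) (j + m) := by
    intro m i j hij
    change A (i + m) * A (j + m) = A (j + m) * A (i + m)
    rw [← hxA, ← hxA]
    have h3 : x ^ m * A i * (x ^ m)⁻¹ * (x ^ m * A j * (x ^ m)⁻¹) = x ^ m * (A i * A j) * (x ^ m)⁻¹ := by group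
    have h4 : x ^ m * A j * (x ^ m)⁻¹ * (x ^ m * A i * (x ^ m)⁻¹) = x ^ m * (A j * A i) * (x ^ m)⁻¹ := by group
    rw [h3, h4, show A i * A j = A j * A i from hij]
  have hQs : ∀ (m : ℕ) (i j : ZMod 5), Q i j → Q (i + m) (j + m) := by
    rintro m i j ⟨c, hc, hc'⟩
    refine ⟨x ^ m * c * (x ^ m)⁻¹, ?_, ?_⟩
    · rw [← hxA, ← hxA]
      have h3 : x ^ m * A i * (x ^ m)⁻¹ * (x ^ m * A j * (x ^ m)⁻¹) = x ^ m * (A i * A j) * (x ^ m)⁻¹ := by group
      rw [h3, hc]
      group
    · rw [map_mul, map_mul, hc', mul_smul_comm, smul_mul_assoc, mul_one, ← map_mul, mul_inv_cancel, map_one]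
  have hQsymm : ∀ i j, Q i j → Q j i := by
    rintro i j ⟨c, hc, hc'⟩
    refine ⟨c, ?_, hc'⟩
    have h3 : c * c = 1 := hρi (by
      rw [map_mul, hc', smul_mul_smul_comm, mul_one, map_one]
      norm_num)
    have h4 : c * (A i * A j) = A j * A i := by rw [hc, ← mul_assoc, h3, one_mul]
    exact h4.symm
  by_cases hall : ∀ i j, P i j
  · -- commuting involutions
    have hC : ∀ i j, Commute (A i) (A j) := hall
    have hx1A : ∀ i, x * A i = A (i + 1) * x := by
      intro i
      have h3 := hxA 1 i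
      rw [pow_one, Nat.cast_one] at h3
      rw [← h3, inv_mul_cancel_right]
    let N : ZMod 5 → Module.End K V := fun i => ρ (A i * (A (i + 1))⁻¹)
    have hNe : ∀ i, N i = ρ (A i * (A (i + 1))⁻¹) := fun i => rfl
    obtain ⟨⟨v, hv0, hv⟩, hev⟩ := shift (X := ρ x) (N := N) h2 hn (by rw [← map_pow, hx, map_one])
      (by
        intro i
        rw [hNe, hNe, ← map_mul, ← map_mul]
        congr 1
        have h3 : x * (A (i + 1))⁻¹ = (A (i + 1 + 1))⁻¹ * x := by
          rw [eq_inv_mul_iff_mul_eq, ← mul_assoc, ← hx1A, mul_inv_cancel_right]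
        calc x * (A i * (A (i + 1))⁻¹) = (x * A i) * (A (i + 1))⁻¹ := (mul_assoc _ _ _).symm
          _ = A (i + 1) * (x * (A (i + 1))⁻¹) := by rw [hx1A i]; exact mul_assoc _ _ _
          _ = A (i + 1) * (A (i + 1 + 1))⁻¹ * x := by rw [h3]; exact (mul_assoc _ _ _).symm)
      (by
        intro i
        rw [hNe, ← map_mul]
        have h3 : A i * (A (i + 1))⁻¹ * (A i * (A (i + 1))⁻¹) = 1 := by
          have h4 : (A (i + 1))⁻¹ * A i = A i * (A (i + 1))⁻¹ := ((hC (i + 1) i).inv_left).eq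
          calc A i * (A (i + 1))⁻¹ * (A i * (A (i + 1))⁻¹) = A i * ((A (i + 1))⁻¹ * A i) * (A (i + 1))⁻¹ := by group
            _ = (A i * A i) * (A (i + 1) * A (i + 1))⁻¹ := by rw [h4]; group
            _ = 1 := by rw [hAA, hAA, mul_inv_cancel]
        rw [h3, map_one])
      (by
        intro i j
        rw [hNe, hNe, ← map_mul, ← map_mul]
        congr 1
        exact (((hC _ _).mul_left (hC _ _).inv_left).mul_right (((hC _ _).inv_right).mul_left
          (hC _ _).inv_left.inv_right)).eq)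
      (by
        rw [hNe, hNe, hNe, hNe, hNe, ← map_mul, ← map_mul, ← map_mul, ← map_mul]
        have e1 : (0 : ZMod 5) + 1 = 1 := rfl
        have e2 : (1 : ZMod 5) + 1 = 2 := rfl
        have e3 : (2 : ZMod 5) + 1 = 3 := rfl
        have e4 : (3 : ZMod 5) + 1 = 4 := rfl
        have e5 : (4 : ZMod 5) + 1 = 0 := rfl
        rw [e1, e2, e3, e4, e5]
        have h3 : A 0 * (A 1)⁻¹ * (A 1 * (A 2)⁻¹) * (A 2 * (A 3)⁻¹) * (A 3 * (A 4)⁻¹) * (A 4 * (A 0)⁻¹) = 1 := by group
        rw [h3, map_one])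
      (by
        intro h0
        rw [hNe] at h0
        have h3 : A 0 * (A (0 + 1))⁻¹ = 1 := hρi (by rw [h0, map_one])
        have h4 : A 0 = A (0 + 1) := mul_inv_eq_one.1 h3
        have h5 := hx1A 0
        rw [← h4] at h5
        have h6 : A 0 = a := by
          change x ^ 0 * a * (x ^ 0)⁻¹ = a
          rw [pow_zero, one_mul, inv_one, mul_one]
        rw [h6] at h5
        apply hxa
        have h7 := congrArg (QuotientGroup.mk : L → L ⧸ Subgroup.center L) h5
        rw [QuotientGroup.mk_mul, QuotientGroup.mk_mul] at h7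
        rw [h7, mul_inv_cancel_right])
    have hb := bound H h5p hs (by rw [hA, hS]; norm_num) hx hxc (d := 2) (k := 3) (N := 2016) hev (by
      change 0 < finrank K (Module.End.eigenspace (rep H x) 1)
      rw [Module.finrank_pos_iff_exists_ne_zero]
      refine ⟨⟨v, ?_⟩, fun h0 => hv0 (congrArg Subtype.val h0)⟩
      rw [Module.End.mem_eigenspace_iff, one_smul]
      exact hv) (by rw [hn]) (by
      obtain ⟨h1, h2⟩ := card_order_spec hs hd
      rw [hS] at h1
      set N := Nat.card {R : Subgroup (L ⧸ Subgroup.center L) // Nat.card R = 5}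
      obtain ⟨m, hm⟩ := h1
      norm_num at hm
      by_contra hlt
      have hm2 : m < 2 := by nlinarith
      interval_cases m <;> omega)
    rw [hn] at hb
    have h6 := arith2 (by omega) hb
    have h7 : 11 ^ 4 ≤ Nat.card K ^ 4 := Nat.pow_le_pow_left hq 4
    omega
  · exfalso
    let T : ZMod 5 → Module.End (AlgebraicClosure K) (Fin (finrank K V) → AlgebraicClosure K) := fun i => bar ρ (A i)
    have h2' : (2 : AlgebraicClosure K) ≠ 0 := by
      have := (map_ne_zero (algebraMap K (AlgebraicClosure K))).2 h2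
      rwa [map_ofNat] at this
    have hT6 : finrank (AlgebraicClosure K) (Fin (finrank K V) → AlgebraicClosure K) = 6 := by
      rw [finrank_fin_fun, hn]
    have hTinj : ∀ g : L, Function.Injective (bar ρ g) := by
      intro g u v huv
      have h3 : ∀ z, bar ρ g⁻¹ (bar ρ g z) = z := by
        intro z
        have h4 : bar ρ g⁻¹ * bar ρ g = 1 := by rw [← map_mul, inv_mul_cancel, map_one]
        exact congrArg (fun T : Module.End _ _ => T z) h4
      rw [← h3 u, ← h3 v, huv]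
    have hTP : ∀ i j, P i j → T i * T j = T j * T i := by
      intro i j hij
      change bar ρ (A i) * bar ρ (A j) = bar ρ (A j) * bar ρ (A i)
      rw [← map_mul, ← map_mul, show A i * A j = A j * A i from hij]
    have hTQ : ∀ i j, Q i j → T i * T j = -(T j * T i) := by
      rintro i j ⟨c, hc, hc'⟩
      change bar ρ (A i) * bar ρ (A j) = -(bar ρ (A j) * bar ρ (A i))
      rw [← map_mul, ← map_mul, hc, map_mul, bar_smul ρ hc', map_neg, map_one]
      refine LinearMap.ext fun z => ?_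
      rw [Module.End.mul_apply, LinearMap.smul_apply, Module.End.one_apply, neg_one_smul, LinearMap.neg_apply]
    obtain ⟨α, hα0, hα⟩ := scalar_of_center H haa
    have hα' : ρ (a * a) = α • 1 := LinearMap.ext hα
    have hTT : ∀ i, T i * T i = algebraMap K (AlgebraicClosure K) α • 1 := by
      intro i
      change bar ρ (A i) * bar ρ (A i) = _
      rw [← map_mul, hAA, bar_smul ρ hα']
    have hα1 : algebraMap K (AlgebraicClosure K) α ≠ 0 := (map_ne_zero _).2 hα0
    have hPsymm : ∀ i j, P i j → P j i := fun i j hij => Eq.symm hij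
    rcases hdich 0 1 with h01 | h01 <;> rcases hdich 0 2 with h02 | h02
    · apply hall
      have h0 : ∀ t : ZMod 5, P 0 t := by
        intro t
        have h03 : P 0 3 := hPs 3 2 0 (hPsymm _ _ h02)
        have h04 : P 0 4 := hPs 4 1 0 (hPsymm _ _ h01)
        have key : ∀ t : Fin 5, P 0 (t : ZMod 5) := by
          intro t
          fin_cases t
          · exact rfl
          · exact h01
          · exact h02
          · exact h03
          · exact h04
        exact key t
      intro i j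
      have h3 := hPs i.val 0 (j - i) (h0 _)
      rwa [ZMod.natCast_zmod_val, zero_add, sub_add_cancel] at h3
    · have h04 : P 0 4 := hPs 4 1 0 (hPsymm _ _ h01)
      have h03 : Q 0 3 := hQs 3 2 0 (hQsymm _ _ h02)
      have h14 : Q 1 4 := hQs 1 0 3 h03
      exact no_pairs h2' hT6 hα1 (hTT 0) (hTinj _) (hTinj _) (hTinj _) (hTQ 0 2 h02) (hTQ 1 4 h14) (hTP 0 1 h01)
        (hTP 0 4 h04)
    · have h03 : P 0 3 := hPs 3 2 0 (hPsymm _ _ h02)
      have h32 : Q 3 2 := hQs 2 1 0 (hQsymm _ _ h01)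
      exact no_pairs h2' hT6 hα1 (hTT 0) (hTinj _) (hTinj _) (hTinj _) (hTQ 0 1 h01) (hTQ 3 2 h32) (hTP 0 3 h03)
        (hTP 0 2 h02)
    · have h03 : Q 0 3 := hQs 3 2 0 (hQsymm _ _ h02)
      have h13 : Q 1 3 := hQs 1 0 2 h02
      have h12 : Q 1 2 := hQs 1 0 1 h01
      have h23 : Q 2 3 := hQs 2 0 1 h01
      have q01 := hTQ 0 1 h01
      have q02 := hTQ 0 2 h02
      have q03 := hTQ 0 3 h03
      have q21 := hTQ 2 1 (hQsymm _ _ h12)
      have q31 := hTQ 3 1 (hQsymm _ _ h13)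
      have q32 := hTQ 3 2 (hQsymm _ _ h23)
      obtain ⟨r1, r2, r3⟩ := prod_rel q01 q02 q03 q21 q31 q32
      refine no_pairs h2' hT6 hα1 (hTT 0) (hTinj (A 1)) (C := T 1 * T 2) (D := T 1 * T 3) ?_ ?_ q01 r1 r2 r3
      · exact (hTinj (A 1)).comp (hTinj (A 2))
      · exact (hTinj (A 1)).comp (hTinj (A 3))

end row

end Cfsg.Agent.H392.HT
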